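import Groth.Agent.FlatCrit65.FlatLocus.Main
import Mathlib.Algebra.Module.FinitePresentation

/-!
Openness of the flat locus, algebra form.
-/

universe u

open TensorProduct

namespace Groth.Agent.FlatCrit65

theorem flat_localized_equiv {R S M N : Type u} [CommRing R] [CommRing S] [Algebra R S]
    [AddCommGroup M] [Module R M] [Module S M] [IsScalarTower R S M]
    [AddCommGroup N] [Module R N] [Module S N] [IsScalarTower R S N] (e : M ≃ₗ[S] N)
    (q : Ideal S) [q.IsPrime] (h : Module.Flat R (LocalizedModule q.primeCompl M)) :
    Module.Flat R (LocalizedModule q.primeCompl N) := by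
  rw [flat_localized_iff_kernels] at h ⊢
  intro I z hz
  have hnat : ∀ w : N ⊗[R] I, I.subtype.lTensor M (AlgebraTensorModule.rTensor R I e.symm.toLinearMap w) =
      AlgebraTensorModule.rTensor R R e.symm.toLinearMap (I.subtype.lTensor N w) := by
    intro w
    induction w using TensorProduct.induction_on with
    | zero => simp
    | tmul a b => rfl
    | add a b ha hb => simp only [map_add, ha, hb]
  obtain ⟨s, hs, hsz⟩ := h I (AlgebraTensorModule.rTensor R I e.symm.toLinearMap z)
    (by rw [hnat, hz, map_zero])
  refine ⟨s, hs, ?_⟩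
  have hinv : ∀ w : N ⊗[R] I, AlgebraTensorModule.rTensor R I e.toLinearMap
      (AlgebraTensorModule.rTensor R I e.symm.toLinearMap w) = w := by
    intro w
    induction w using TensorProduct.induction_on with
    | zero => simp
    | tmul a b =>
      show e (e.symm a) ⊗ₜ[R] b = _
      rw [e.apply_symm_apply]
    | add a b ha hb => simp only [map_add, ha, hb]
  rw [← hinv z, ← map_smul, hsz, map_zero]

/-- Openness of the flat locus of a finitely presented module over a finitely presented algebra. -/
theorem isOpen_flat_locus_module {R S M : Type u} [CommRing R] [CommRing S] [Algebra R S]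
    [Algebra.FinitePresentation R S] [AddCommGroup M] [Module S M] [Module R M] [IsScalarTower R S M]
    [Module.FinitePresentation S M] :
    IsOpen {q : PrimeSpectrum S | Module.Flat R (LocalizedModule q.asIdeal.primeCompl M)} := by
  obtain ⟨n, π, hπ, hker⟩ := ‹Algebra.FinitePresentation R S›.out
  letI : Algebra (MvPolynomial (Fin n) R) S := π.toRingHom.toAlgebra
  have : IsScalarTower R (MvPolynomial (Fin n) R) S :=
    IsScalarTower.of_algebraMap_eq fun a => (π.commutes a).symm
  letI : Module (MvPolynomial (Fin n) R) M := Module.compHom M π.toRingHom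
  have : IsScalarTower (MvPolynomial (Fin n) R) S M := IsScalarTower.of_algebraMap_smul fun _ _ => rfl
  have : IsScalarTower R (MvPolynomial (Fin n) R) M := IsScalarTower.of_algebraMap_smul fun a m => by
    show π (algebraMap R _ a) • m = a • m
    rw [π.commutes, algebraMap_smul]
  have : Module.FinitePresentation (MvPolynomial (Fin n) R) S :=
    Module.finitePresentation_of_surjective (Algebra.linearMap (MvPolynomial (Fin n) R) S) hπ (by
      exact hker)
  have : Module.FinitePresentation (MvPolynomial (Fin n) R) M :=
    Module.FinitePresentation.trans (MvPolynomial (Fin n) R) M S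
  obtain ⟨k, L, e, hL⟩ := Module.FinitePresentation.exists_fin (MvPolynomial (Fin n) R) M
  obtain ⟨T, rfl⟩ := hL
  rw [isOpen_iff_forall_mem_open]
  intro q hq
  have hiff : ∀ q : PrimeSpectrum S, Module.Flat R (LocalizedModule q.asIdeal.primeCompl M) ↔
      Module.Flat R (LocalizedModule (q.asIdeal.comap π).primeCompl M) := by
    intro q
    rw [flat_localized_iff_kernels, flat_localized_iff_kernels]
    refine forall_congr' fun I => forall_congr' fun z => imp_congr_right fun _ => ⟨?_, ?_⟩
    · rintro ⟨s, hs, hsz⟩
      obtain ⟨s', rfl⟩ := hπ s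
      refine ⟨s', hs, ?_⟩
      rw [← algebraMap_smul S s' z]
      exact hsz
    · rintro ⟨s', hs, hsz⟩
      refine ⟨π s', hs, ?_⟩
      rw [← algebraMap_smul S s' z] at hsz
      exact hsz
  obtain ⟨g, hg, hgnhd⟩ := Monom.exists_flat_nhd T (q.asIdeal.comap π)
    (flat_localized_equiv e _ ((hiff q).mp hq))
  refine ⟨PrimeSpectrum.basicOpen (π g), fun q' hq' => ?_, PrimeSpectrum.isOpen_basicOpen, hg⟩
  exact (hiff q').mpr (flat_localized_equiv e.symm _ (hgnhd (q'.asIdeal.comap π) hq'))

end Groth.Agent.FlatCrit65
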