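import Groth.Agent.FlatCrit65.Localized
import Groth.Agent.FlatCrit65.FlatModSmaller

/-!
Flatness at a prime read off from kernels of tensor maps.
-/

universe u

open TensorProduct

namespace Groth.Agent.FlatCrit65

variable {R S M : Type u} [CommRing R] [CommRing S] [Algebra R S] [AddCommGroup M] [Module R M]
  [Module S M] [IsScalarTower R S M] {P Q : Type u} [AddCommGroup P] [Module R P] [AddCommGroup Q]
  [Module R Q]

theorem lTensor_localized_eq (T : Submonoid S) (f : P →ₗ[R] Q) (z : M ⊗[R] P) :
    f.lTensor (LocalizedModule T M)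
        (AlgebraTensorModule.rTensor R P (LocalizedModule.mkLinearMap T M) z) =
      AlgebraTensorModule.rTensor R Q (LocalizedModule.mkLinearMap T M) (f.lTensor M z) := by
  induction z using TensorProduct.induction_on with
  | zero => simp
  | tmul m x => simp
  | add a b ha hb => simp only [map_add, ha, hb]

theorem injective_lTensor_localized (T : Submonoid S) (f : P →ₗ[R] Q)
    (h : ∀ z : M ⊗[R] P, f.lTensor M z = 0 → ∃ t ∈ T, t • z = 0) :
    Function.Injective (f.lTensor (LocalizedModule T M)) := by
  rw [injective_iff_map_eq_zero]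
  intro z hz
  obtain ⟨⟨z₀, t⟩, ht⟩ :=
    IsLocalizedModule.surj T (AlgebraTensorModule.rTensor R P (LocalizedModule.mkLinearMap T M)) z
  have h1 : AlgebraTensorModule.rTensor R Q (LocalizedModule.mkLinearMap T M) (f.lTensor M z₀) = 0 := by
    rw [← lTensor_localized_eq, ← ht]
    show AlgebraTensorModule.lTensor S (LocalizedModule T M) f ((t : S) • z) = 0
    rw [map_smul]
    show (t : S) • f.lTensor (LocalizedModule T M) z = 0
    rw [hz, smul_zero]
  obtain ⟨t', ht'⟩ := (IsLocalizedModule.eq_zero_iff T _).mp h1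
  obtain ⟨t'', ht''T, ht''⟩ := h ((t' : S) • z₀) (by
    show AlgebraTensorModule.lTensor S M f ((t' : S) • z₀) = 0
    rw [map_smul]
    exact ht')
  have hz0 : AlgebraTensorModule.rTensor R P (LocalizedModule.mkLinearMap T M) z₀ = 0 :=
    (IsLocalizedModule.eq_zero_iff T _).mpr ⟨⟨t'' * t', T.mul_mem ht''T t'.2⟩, by
      rw [Submonoid.smul_def, mul_smul, ht'']⟩
  rw [hz0] at ht
  exact IsLocalizedModule.smul_injective
    (AlgebraTensorModule.rTensor R P (LocalizedModule.mkLinearMap T M)) t (ht.trans (smul_zero t).symm)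

theorem exists_smul_eq_zero_of_injective (T : Submonoid S) (f : P →ₗ[R] Q)
    (h : Function.Injective (f.lTensor (LocalizedModule T M))) (z : M ⊗[R] P)
    (hz : f.lTensor M z = 0) : ∃ t ∈ T, t • z = 0 := by
  have : AlgebraTensorModule.rTensor R P (LocalizedModule.mkLinearMap T M) z = 0 := by
    apply h
    rw [map_zero, lTensor_localized_eq, hz, map_zero]
  obtain ⟨t, ht⟩ := (IsLocalizedModule.eq_zero_iff T _).mp this
  exact ⟨t, t.2, ht⟩

/-- Flatness at a prime, elementwise. -/
theorem flat_localized_iff_kernels (q : Ideal S) [q.IsPrime] :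
    Module.Flat R (LocalizedModule q.primeCompl M) ↔
      ∀ (I : Ideal R) (z : M ⊗[R] I), I.subtype.lTensor M z = 0 → ∃ s ∉ q, s • z = 0 := by
  constructor
  · intro h I z hz
    exact exists_smul_eq_zero_of_injective q.primeCompl _
      (Module.Flat.lTensor_preserves_injective_linearMap _ Subtype.val_injective) z hz
  · intro h
    rw [Module.Flat.iff_lTensor_injective']
    exact fun I => injective_lTensor_localized q.primeCompl _ fun z hz => h I z hz

theorem flat_localized_of_le {q q' : Ideal S} [q.IsPrime] [q'.IsPrime] (hle : q' ≤ q)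
    (h : Module.Flat R (LocalizedModule q.primeCompl M)) :
    Module.Flat R (LocalizedModule q'.primeCompl M) := by
  rw [flat_localized_iff_kernels] at h ⊢
  intro I z hz
  obtain ⟨s, hs, hsz⟩ := h I z hz
  exact ⟨s, fun h' => hs (hle h'), hsz⟩

/-- The local criterion at a prime, elementwise. -/
theorem flat_localized_of_kernels [IsNoetherianRing R] [IsNoetherianRing S] [Module.Finite S M]
    {I : Ideal R} (q : Ideal S) [q.IsPrime] (hq : I.map (algebraMap R S) ≤ q)
    (h1 : ∀ z : M ⊗[R] I, I.subtype.lTensor M z = 0 → ∃ s ∉ q, s • z = 0)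
    (h2 : ∀ (K : Submodule R (R ⧸ I)) (z : M ⊗[R] K), K.subtype.lTensor M z = 0 →
      ∃ s ∉ q, s • z = 0) :
    Module.Flat R (LocalizedModule q.primeCompl M) := by
  have : IsNoetherianRing (Localization.AtPrime q) :=
    IsLocalization.isNoetherianRing q.primeCompl _ inferInstance
  have hlex : LexQuot I (LocalizedModule q.primeCompl M) :=
    (torTriv_of_injective (injective_lTensor_localized q.primeCompl _ h1)
      (flat_baseChange_of_injective I fun K =>
        injective_lTensor_localized q.primeCompl _ (h2 K))).lexQuot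
  refine flat_of_lexQuot (S := Localization.AtPrime q) ?_ hlex
  rw [IsLocalRing.jacobson_eq_maximalIdeal ⊥ bot_ne_top, Ideal.map_le_iff_le_comap]
  intro x hx
  have hxq : algebraMap R S x ∈ q := hq (Ideal.mem_map_of_mem _ hx)
  rw [Ideal.mem_comap, IsScalarTower.algebraMap_apply R S (Localization.AtPrime q)]
  exact (IsLocalization.AtPrime.to_map_mem_maximal_iff (Localization.AtPrime q) q _).mpr hxq

end Groth.Agent.FlatCrit65
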