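import Groth.Agent.FlatCrit65.FlatLocus.Stage
import Groth.Agent.FlatCrit65.FlatLocus.Kernels
import Groth.Agent.EGA4H10.RegAway
import Mathlib.RingTheory.Polynomial.Basic
import Mathlib.RingTheory.FiniteType
import Mathlib.RingTheory.FinitePresentation

/-!
Openness of the flat locus of a finitely presented module over a finitely presented algebra.
-/

universe u

open TensorProduct MvPolynomial

namespace Groth.Agent.FlatCrit65.Monom

variable {R : Type u} [CommRing R] {n k : ℕ}

local notation "FF" => (Fin k → MvPolynomial (Fin n) R)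
local notation "PP" => MvPolynomial (Fin n) R

/-- The multiplication `F ⊗ I → F`. -/
noncomputable def mulMap (I : Ideal R) : FF ⊗[R] I →ₗ[PP] FF :=
  (AlgebraTensorModule.rid R PP FF).toLinearMap ∘ₗ AlgebraTensorModule.lTensor PP FF I.subtype

theorem mulMap_tmul (I : Ideal R) (m : FF) (c : I) : mulMap I (m ⊗ₜ c) = (c : R) • m := rfl

theorem mulMap_injective (I : Ideal R) : Function.Injective (mulMap (n := n) (k := k) I) :=
  (AlgebraTensorModule.rid R PP FF).injective.comp
    (Module.Flat.lTensor_preserves_injective_linearMap (M := FF) I.subtype Subtype.val_injective)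

theorem rid_lTensor_rTensor (L : Submodule PP FF) (I : Ideal R) (w : FF ⊗[R] I) :
    TensorProduct.rid R (FF ⧸ L)
      (I.subtype.lTensor (FF ⧸ L) (AlgebraTensorModule.rTensor R I L.mkQ w)) = L.mkQ (mulMap I w) := by
  induction w using TensorProduct.induction_on with
  | zero => simp
  | tmul m c =>
    rw [mulMap_tmul, LinearMap.map_smul_of_tower]
    rfl
  | add a b ha hb => simp only [map_add, ha, hb]

theorem exists_rTensor_subtype {L : Submodule PP FF} {I : Ideal R} {y : FF}
    (hy : y ∈ I • L.restrictScalars R) :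
    ∃ u : L ⊗[R] I, mulMap I (AlgebraTensorModule.rTensor R I L.subtype u) = y := by
  refine Submodule.smul_induction_on hy (fun c hc m hm => ⟨⟨m, hm⟩ ⊗ₜ ⟨c, hc⟩, rfl⟩) ?_
  rintro a b ⟨u, rfl⟩ ⟨v, rfl⟩
  exact ⟨u + v, by simp only [map_add]⟩

theorem smul_mem_smul_restrictScalars {L : Submodule PP FF} {I : Ideal R} (s : PP) {y : FF}
    (hy : y ∈ I • L.restrictScalars R) : s • y ∈ I • L.restrictScalars R := by
  rw [← Ideal.smul_restrictScalars, Submodule.restrictScalars_mem] at hy ⊢
  exact Submodule.smul_mem _ s hy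

/-- At a flat point, relations with coefficients in `I` lie in `I L`. -/
theorem exists_smul_mem_of_flat (L : Submodule PP FF) (q : Ideal PP) [q.IsPrime]
    (hflat : Module.Flat R (LocalizedModule q.primeCompl (FF ⧸ L))) (I : Ideal R) {y : FF}
    (hy : y ∈ L) (hyI : ∀ x, coord y x ∈ I) : ∃ s ∉ q, s • y ∈ I • L.restrictScalars R := by
  classical
  let w : FF ⊗[R] I := ∑ x ∈ monoms y, e R x ⊗ₜ ⟨coord y x, hyI x⟩
  have hw : mulMap I w = y := by
    simp only [w, map_sum, mulMap_tmul]
    exact sum_coord y _ subset_rfl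
  obtain ⟨s, hs, hsz⟩ := (flat_localized_iff_kernels q).mp hflat I
    (AlgebraTensorModule.rTensor R I L.mkQ w) (by
      apply (TensorProduct.rid R (FF ⧸ L)).injective
      rw [rid_lTensor_rTensor, hw, map_zero]
      exact (Submodule.Quotient.mk_eq_zero L).mpr hy)
  rw [← map_smul] at hsz
  obtain ⟨u, hu⟩ := ((rTensor_exact I
    (f := L.subtype.restrictScalars R) (g := L.mkQ.restrictScalars R)
    (LinearMap.exact_subtype_mkQ L) L.mkQ_surjective) (s • w)).mp hsz
  refine ⟨s, hs, ?_⟩
  rw [← hw, ← map_smul, ← hu]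
  clear hu
  induction u using TensorProduct.induction_on with
  | zero => simp
  | tmul l c => exact Submodule.smul_mem_smul c.2 l.2
  | add a b ha hb => simp only [map_add]; exact add_mem ha hb

section Stage

variable {R₀ : Type u} [CommRing R₀] [Algebra R₀ R] {p : Ideal R₀}
  {L₀ : Submodule (MvPolynomial (Fin n) R₀) (Fin k → MvPolynomial (Fin n) R₀)}

/-- Flatness near `V(p R)` from the standard monomials. -/
theorem flat_of_stage [IsNoetherianRing R] (D : StdData L₀ p) (s : PP)
    (hs : ∀ v ∈ L₀, (∀ a, coord v a ∈ p) →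
      s • bc R v ∈ p.map (algebraMap R₀ R) • (bcSub R L₀).restrictScalars R)
    (q : Ideal PP) [q.IsPrime] (hpq : (p.map (algebraMap R₀ R)).map (algebraMap R PP) ≤ q)
    (hf : algebraMap R PP (algebraMap R₀ R D.f) ∉ q) (hsq : s ∉ q) :
    Module.Flat R (LocalizedModule q.primeCompl (FF ⧸ bcSub R L₀)) := by
  set L := bcSub R L₀ with hL
  refine flat_localized_of_kernels q hpq (fun z hz => ?_) (fun K z hz => ?_)
  · obtain ⟨w, rfl⟩ : ∃ w, AlgebraTensorModule.rTensor R (p.map (algebraMap R₀ R)) L.mkQ w = z :=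
      LinearMap.rTensor_surjective (p.map (algebraMap R₀ R)) (g := L.mkQ.restrictScalars R) L.mkQ_surjective z
    have hy : mulMap (p.map (algebraMap R₀ R)) w ∈ L := by
      rw [← Submodule.Quotient.mk_eq_zero, ← Submodule.mkQ_apply, ← rid_lTensor_rTensor]
      exact (congrArg _ hz).trans (map_zero _)
    have hyI : ∀ a, coord (mulMap (p.map (algebraMap R₀ R)) w) a ∈ (p.map (algebraMap R₀ R)) := by
      rw [← mem_smul_top_iff_coord]
      clear hy hz
      induction w using TensorProduct.induction_on with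
      | zero => simp
      | tmul m c => exact Submodule.smul_mem_smul c.2 trivial
      | add a b ha hb => rw [map_add]; exact add_mem ha hb
    obtain ⟨M, hM⟩ := D.exists_mem_cap R hy hyI
    have hcap : ∀ t ∈ capSpan R L₀ p, s • t ∈ (p.map (algebraMap R₀ R)) • L.restrictScalars R := by
      intro t ht
      induction ht using Submodule.span_induction with
      | mem t ht => obtain ⟨v, hv, rfl⟩ := ht; exact hs v hv.1 hv.2
      | zero => rw [smul_zero]; exact zero_mem _
      | add a b _ _ ha hb => rw [smul_add]; exact add_mem ha hb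
      | smul r a _ ha => rw [smul_comm]; exact Submodule.smul_mem _ r ha
    obtain ⟨a, ha, b, hb, hab⟩ := Submodule.mem_sup.mp hM
    have hmem : (s * algebraMap R PP (algebraMap R₀ R D.f ^ M)) • mulMap (p.map (algebraMap R₀ R)) w ∈ (p.map (algebraMap R₀ R)) • L.restrictScalars R := by
      rw [mul_smul, algebraMap_smul, ← hab, smul_add]
      exact add_mem (smul_mem_smul_restrictScalars s ha) (hcap b hb)
    obtain ⟨u, hu⟩ := exists_rTensor_subtype hmem
    refine ⟨s * algebraMap R PP (algebraMap R₀ R D.f ^ M), fun h => ?_, ?_⟩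
    · rcases Ideal.IsPrime.mem_or_mem inferInstance h with h | h
      · exact hsq h
      · rw [map_pow] at h
        exact hf (Ideal.IsPrime.mem_of_pow_mem inferInstance _ h)
    · show _ • AlgebraTensorModule.rTensor R (p.map (algebraMap R₀ R)) L.mkQ w = 0
      rw [← map_smul, ← mulMap_injective (p.map (algebraMap R₀ R)) (hu.trans (map_smul (mulMap (p.map (algebraMap R₀ R))) _ w).symm)]
      clear hu
      induction u using TensorProduct.induction_on with
      | zero => simp
      | tmul l c =>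
        show (L.mkQ l.1) ⊗ₜ[R] c = 0
        rw [Submodule.mkQ_apply, (Submodule.Quotient.mk_eq_zero L).mpr l.2, zero_tmul]
      | add a b ha hb => simp only [map_add, ha, hb, add_zero]
  · obtain ⟨m, hm⟩ := D.exists_smul_eq_zero R K z hz
    refine ⟨algebraMap R PP (algebraMap R₀ R D.f ^ m), fun h => ?_, ?_⟩
    · rw [map_pow] at h
      exact hf (Ideal.IsPrime.mem_of_pow_mem inferInstance _ h)
    · rw [algebraMap_smul]
      exact hm

/-- A single element kills the relations with coefficients in `p` at a flat point. -/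
theorem exists_smul_cap [IsNoetherianRing R₀] (q : Ideal PP) [q.IsPrime]
    (hflat : Module.Flat R (LocalizedModule q.primeCompl (FF ⧸ bcSub R L₀))) :
    ∃ s ∉ q, ∀ v ∈ L₀, (∀ a, coord v a ∈ p) →
      s • bc R v ∈ p.map (algebraMap R₀ R) • (bcSub R L₀).restrictScalars R := by
  classical
  let C : Submodule (MvPolynomial (Fin n) R₀) (Fin k → MvPolynomial (Fin n) R₀) :=
    L₀ ⊓ p.map (algebraMap R₀ (MvPolynomial (Fin n) R₀)) • ⊤
  have hC : ∀ v, v ∈ C ↔ v ∈ L₀ ∧ ∀ a, coord v a ∈ p := fun v => by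
    rw [Submodule.mem_inf]
    refine and_congr_right fun _ => ?_
    rw [← Submodule.restrictScalars_mem R₀, Ideal.smul_restrictScalars, Submodule.restrictScalars_top,
      mem_smul_top_iff_coord]
  obtain ⟨G, hG⟩ := IsNoetherian.noetherian C
  have : ∀ g : G, ∃ s ∉ q, s • bc R g.1 ∈ p.map (algebraMap R₀ R) • (bcSub R L₀).restrictScalars R := by
    rintro ⟨g, hg⟩
    have hgC : g ∈ C := hG ▸ Submodule.subset_span hg
    obtain ⟨h1, h2⟩ := (hC g).mp hgC
    exact exists_smul_mem_of_flat _ q hflat _ (Submodule.subset_span ⟨g, h1, rfl⟩)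
      (fun a => coord_bc R g a ▸ Ideal.mem_map_of_mem _ (h2 a))
  choose s hs hsG using this
  refine ⟨∏ g, s g, ?_, fun v hv hvp => ?_⟩
  · intro h
    obtain ⟨g, -, hg⟩ := Ideal.IsPrime.prod_mem_iff.mp h
    exact hs g hg
  · have hvC : v ∈ Submodule.span (MvPolynomial (Fin n) R₀) (G : Set _) := hG.symm ▸ (hC v).mpr ⟨hv, hvp⟩
    clear hv hvp
    induction hvC using Submodule.span_induction with
    | mem g hg =>
      obtain ⟨d, hd⟩ := Finset.dvd_prod_of_mem s (Finset.mem_univ (⟨g, hg⟩ : G))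
      rw [hd, mul_comm, mul_smul]
      exact smul_mem_smul_restrictScalars d (hsG ⟨g, hg⟩)
    | zero => rw [bc_zero, smul_zero]; exact zero_mem _
    | add a b _ _ ha hb => rw [bc_add, smul_add]; exact add_mem ha hb
    | smul r a _ ha =>
      rw [bc_psmul, smul_comm]
      exact smul_mem_smul_restrictScalars _ ha

end Stage

theorem bc_self (x : Fin k → MvPolynomial (Fin n) R) : bc R x = x := by
  funext i
  show MvPolynomial.map (algebraMap R R) (x i) = x i
  rw [Algebra.algebraMap_self, MvPolynomial.map_id]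

theorem bcSub_self (L : Submodule PP FF) : bcSub R L = L := by
  rw [bcSub, show bc R '' (L : Set FF) = (L : Set FF) from by
    rw [show (bc R : FF → FF) = id from funext bc_self, Set.image_id], Submodule.span_eq]

/-- Openness of the flat locus, Noetherian case. -/
theorem isOpen_flat_noetherian [IsNoetherianRing R] (L : Submodule PP FF) :
    IsOpen {q : PrimeSpectrum PP | Module.Flat R (LocalizedModule q.asIdeal.primeCompl (FF ⧸ L))} := by
  refine Groth.Agent.EGA4H10.isOpen_of_locally PP _ (fun a b hab hb => flat_localized_of_le hab hb)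
    fun q hq => ?_
  let p := q.asIdeal.comap (algebraMap R PP)
  obtain ⟨D⟩ := exists_stdData L p
  change Module.Flat R (LocalizedModule q.asIdeal.primeCompl (FF ⧸ L)) at hq
  obtain ⟨s, hs, hsv⟩ := exists_smul_cap (R₀ := R) (L₀ := L) (p := p) q.asIdeal
    (by rw [bcSub_self]; exact hq)
  refine ⟨algebraMap R PP D.f * s, fun h => ?_, fun q' hqq' hfs => ?_⟩
  · rcases q.2.mem_or_mem h with h | h
    · exact D.notMem h
    · exact hs h
  · have := flat_of_stage D s hsv q'.asIdeal
      (by
        rw [Algebra.algebraMap_self, Ideal.map_id]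
        exact Ideal.map_le_iff_le_comap.mpr (Ideal.comap_mono hqq'))
      (fun h => hfs (Ideal.mul_mem_right _ _ h)) (fun h => hfs (Ideal.mul_mem_left _ _ h))
    rw [bcSub_self] at this
    exact this

theorem mem_bcSub_of_mem_span {R₀ : Type u} [CommRing R₀] [Algebra R₀ R]
    {L₀ : Submodule (MvPolynomial (Fin n) R₀) (Fin k → MvPolynomial (Fin n) R₀)} {y : FF}
    (hy : y ∈ Submodule.span R (bc R '' (L₀ : Set (Fin k → MvPolynomial (Fin n) R₀)))) : y ∈ bcSub R L₀ :=
  Submodule.span_le_restrictScalars R PP _ hy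

section BaseChange

variable {A : Type u} [CommRing A] [Algebra A R]
  (L₁ : Submodule (MvPolynomial (Fin n) A) (Fin k → MvPolynomial (Fin n) A))

/-- Flatness is stable under base change, for polynomial modules. -/
theorem flat_bc (q : Ideal PP) [q.IsPrime]
    (h : Module.Flat A (LocalizedModule
      (q.comap (MvPolynomial.map (algebraMap A R))).primeCompl ((Fin k → MvPolynomial (Fin n) A) ⧸ L₁))) :
    Module.Flat R (LocalizedModule q.primeCompl (FF ⧸ bcSub R L₁)) := by
  classical
  set L := bcSub R L₁ with hL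
  set M₁ := (Fin k → MvPolynomial (Fin n) A) ⧸ L₁
  rw [flat_localized_iff_kernels]
  intro I z hz
  let J₀ : (Fin k → MvPolynomial (Fin n) A) →ₗ[A] FF ⧸ L :=
    { toFun := fun y => L.mkQ (bc R y)
      map_add' := fun a b => by rw [bc_add, map_add]
      map_smul' := fun r a => by
        rw [bc_smul, LinearMap.map_smul_of_tower, RingHom.id_apply, algebraMap_smul] }
  let J : M₁ →ₗ[A] FF ⧸ L := (L₁.restrictScalars A).liftQ J₀ (fun y hy =>
    (Submodule.Quotient.mk_eq_zero L).mpr (Submodule.subset_span ⟨y, hy, rfl⟩)) ∘ₗ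
    (Submodule.Quotient.restrictScalarsEquiv A L₁).symm.toLinearMap
  have hJ : ∀ y, J (L₁.mkQ y) = L.mkQ (bc R y) := fun y => rfl
  -- the comparison map and its inverse on `R`
  let Φ (N : Submodule R R) : M₁ ⊗[A] (N.restrictScalars A) →+ (FF ⧸ L) ⊗[R] N :=
    TensorProduct.liftAddHom
      { toFun := fun m =>
          { toFun := fun c => J m ⊗ₜ[R] (⟨c.1, c.2⟩ : N)
            map_zero' := tmul_zero _ _
            map_add' := fun c d => tmul_add _ (⟨c.1, c.2⟩ : N) (⟨d.1, d.2⟩ : N) }
        map_zero' := by ext; simp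
        map_add' := fun a b => by ext; simp [add_tmul] }
      (fun r m c => by
        show J (r • m) ⊗ₜ[R] (⟨c.1, c.2⟩ : N) = J m ⊗ₜ[R] (⟨(r • c).1, (r • c).2⟩ : N)
        rw [map_smul, ← algebraMap_smul R r (J m), smul_tmul]
        congr 1
        exact Subtype.ext (algebraMap_smul R r c.1))
  let Ψ₀ : FF →ₗ[R] R ⊗[A] M₁ := ∑ j : Fin k,
    ((MvPolynomial.basisMonomials (Fin n) R).constr R
      fun a => (1 : R) ⊗ₜ[A] L₁.mkQ (e A (a, j))) ∘ₗ LinearMap.proj j
  have hΨe : ∀ x, Ψ₀ (e R x) = (1 : R) ⊗ₜ[A] L₁.mkQ (e A x) := by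
    rintro ⟨a, j⟩
    simp only [Ψ₀, LinearMap.coe_sum, Finset.sum_apply, LinearMap.comp_apply, LinearMap.proj_apply, e]
    rw [Finset.sum_eq_single j (fun i _ hi => by simp [hi]) (by simp)]
    rw [Pi.single_eq_same]
    exact (MvPolynomial.basisMonomials (Fin n) R).constr_basis R _ a
  have hΨbc : ∀ v, Ψ₀ (bc R v) = (1 : R) ⊗ₜ[A] L₁.mkQ v := by
    intro v
    conv_lhs => rw [← sum_coord v _ subset_rfl]
    conv_rhs => rw [← sum_coord v _ subset_rfl]
    rw [bc_sum, map_sum, map_sum, TensorProduct.tmul_sum]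
    refine Finset.sum_congr rfl fun x _ => ?_
    have he : bc R (e A x) = e R x := by
      obtain ⟨a, j⟩ := x
      funext i
      rcases eq_or_ne i j with rfl | h <;> simp [bc, e, *]
    rw [bc_smul, he, map_smul, hΨe, LinearMap.map_smul_of_tower, tmul_smul, algebraMap_smul]
  have hΨ : L.restrictScalars R ≤ LinearMap.ker Ψ₀ := fun y hy => by
    have := mem_span_of_mem_bcSub (A := R) (L₀ := L₁) hy
    induction this using Submodule.span_induction with
    | mem t ht =>
      obtain ⟨v, hv, rfl⟩ := ht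
      rw [LinearMap.mem_ker, hΨbc, Submodule.mkQ_apply, (Submodule.Quotient.mk_eq_zero L₁).mpr hv, tmul_zero]
    | zero => exact zero_mem _
    | add a b _ _ ha hb => exact add_mem (ha (mem_bcSub_of_mem_span ‹_›)) (hb (mem_bcSub_of_mem_span ‹_›))
    | smul r a _ ha => exact Submodule.smul_mem _ r (ha (mem_bcSub_of_mem_span ‹_›))
  let Ψ : (FF ⧸ L) →ₗ[R] R ⊗[A] M₁ := (L.restrictScalars R).liftQ Ψ₀ hΨ ∘ₗ
    (Submodule.Quotient.restrictScalarsEquiv R L).symm.toLinearMap
  -- lift `z`
  have hsurj : ∀ z : (FF ⧸ L) ⊗[R] I, ∃ z₁, Φ I z₁ = z := by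
    intro z
    induction z using TensorProduct.induction_on with
    | zero => exact ⟨0, map_zero _⟩
    | add a b ha hb =>
      obtain ⟨a', rfl⟩ := ha
      obtain ⟨b', rfl⟩ := hb
      exact ⟨a' + b', map_add _ _ _⟩
    | tmul m c =>
      obtain ⟨y, rfl⟩ := Submodule.Quotient.mk_surjective L m
      refine ⟨∑ x ∈ monoms y, L₁.mkQ (e A x) ⊗ₜ[A]
        (⟨coord y x * c.1, I.mul_mem_left _ c.2⟩ : (I : Submodule R R).restrictScalars A), ?_⟩
      conv_rhs => rw [← sum_coord y _ subset_rfl, ← Submodule.mkQ_apply, map_sum, TensorProduct.sum_tmul]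
      rw [map_sum]
      refine Finset.sum_congr rfl fun x _ => ?_
      have he : bc R (e A x) = e R x := by
        obtain ⟨a, j⟩ := x
        funext i
        rcases eq_or_ne i j with rfl | h <;> simp [bc, e, *]
      show J (L₁.mkQ (e A x)) ⊗ₜ[R] (⟨coord y x * c.1, _⟩ : I) = _
      rw [hJ, he, LinearMap.map_smul_of_tower, smul_tmul]
      rfl
  obtain ⟨z₁, rfl⟩ := hsurj z
  -- its image in `M₁ ⊗ R` vanishes
  have hz₁ : ((I : Submodule R R).restrictScalars A).subtype.lTensor M₁ z₁ = 0 := by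
    apply (TensorProduct.comm A M₁ R).injective
    rw [map_zero]
    have key : ∀ t, TensorProduct.comm A M₁ R (((I : Submodule R R).restrictScalars A).subtype.lTensor M₁ t)
        = Ψ (TensorProduct.rid R (FF ⧸ L) (I.subtype.lTensor (FF ⧸ L) (Φ I t))) := by
      intro t
      induction t using TensorProduct.induction_on with
      | zero => simp
      | add a b ha hb => simp only [map_add, ha, hb]
      | tmul m c =>
        obtain ⟨v, rfl⟩ := L₁.mkQ_surjective m
        show (c.1 : R) ⊗ₜ[A] L₁.mkQ v = Ψ (c.1 • J (L₁.mkQ v))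
        rw [hJ, map_smul]
        show _ = c.1 • Ψ₀ (bc R v)
        rw [hΨbc, smul_tmul', smul_eq_mul, mul_one]
    rw [key, hz, map_zero, map_zero]
  obtain ⟨s, hs, hsz⟩ := exists_smul_eq_zero_of_injective
    (q.comap (MvPolynomial.map (algebraMap A R))).primeCompl _
    (Module.Flat.lTensor_preserves_injective_linearMap
      ((I : Submodule R R).restrictScalars A).subtype Subtype.val_injective) z₁ hz₁
  refine ⟨MvPolynomial.map (algebraMap A R) s, hs, ?_⟩
  have key : ∀ t, Φ I (s • t) = MvPolynomial.map (algebraMap A R) s • Φ I t := by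
    intro t
    induction t using TensorProduct.induction_on with
    | zero => simp
    | add a b ha hb => simp only [map_add, smul_add, ha, hb]
    | tmul m c =>
      obtain ⟨v, rfl⟩ := L₁.mkQ_surjective m
      rw [smul_tmul', ← map_smul]
      show J (L₁.mkQ (s • v)) ⊗ₜ[R] _ = _ • (J (L₁.mkQ v) ⊗ₜ[R] _)
      rw [hJ, hJ, bc_psmul, map_smul, smul_tmul']
  rw [← key, hsz, map_zero]

end BaseChange

theorem bcSub_bcSub {R₀ A : Type u} [CommRing R₀] [CommRing A] [Algebra R₀ A] [Algebra A R] [Algebra R₀ R]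
    [IsScalarTower R₀ A R] (L₀ : Submodule (MvPolynomial (Fin n) R₀) (Fin k → MvPolynomial (Fin n) R₀)) :
    bcSub R (bcSub A L₀) = bcSub R L₀ := by
  have hbc : ∀ x : Fin k → MvPolynomial (Fin n) R₀, bc R (bc A x) = bc R x := fun x => by
    funext i
    show MvPolynomial.map _ (MvPolynomial.map _ (x i)) = _
    rw [MvPolynomial.map_map, ← IsScalarTower.algebraMap_eq R₀ A R]
    rfl
  unfold bcSub
  have h2 := bcSub_span (R₀ := A) (A := R) (n := n) (k := k)
    (bc A '' (L₀ : Set (Fin k → MvPolynomial (Fin n) R₀)))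
  unfold bcSub at h2
  rw [h2, Set.image_image]
  simp only [hbc]

theorem exists_nhd_of_descended {R₀ A : Type u} [CommRing R₀] [CommRing A] [IsNoetherianRing A]
    [Algebra R₀ A] [Algebra A R] [Algebra R₀ R] [IsScalarTower R₀ A R]
    {L₀ : Submodule (MvPolynomial (Fin n) R₀) (Fin k → MvPolynomial (Fin n) R₀)}
    (q : Ideal PP) [q.IsPrime]
    (D : StdData L₀ ((q.comap (algebraMap R PP)).comap (algebraMap R₀ R))) {sA : MvPolynomial (Fin n) A}
    (hsvA : ∀ v ∈ L₀, (∀ a, coord v a ∈ (q.comap (algebraMap R PP)).comap (algebraMap R₀ R)) →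
        sA • bc A v ∈ ((q.comap (algebraMap R PP)).comap (algebraMap R₀ R)).map (algebraMap R₀ A) •
          (bcSub A L₀).restrictScalars A)
    (hs : MvPolynomial.map (algebraMap A R) sA ∉ q) :
    ∃ g ∉ q, ∀ (q' : Ideal PP) [q'.IsPrime], g ∉ q' →
      Module.Flat R (LocalizedModule q'.primeCompl (FF ⧸ bcSub R L₀)) := by
  let ι := MvPolynomial.map (σ := Fin n) (algebraMap A R)
  have hqA : Module.Flat A (LocalizedModule (q.comap ι).primeCompl
      ((Fin k → MvPolynomial (Fin n) A) ⧸ bcSub A L₀)) := by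
    refine flat_of_stage D sA hsvA (q.comap ι) ?_ ?_ hs
    · rw [Ideal.map_map, Ideal.map_le_iff_le_comap]
      intro a ha
      show ι (algebraMap A _ (algebraMap R₀ A a)) ∈ q
      simpa [ι, MvPolynomial.map_C, ← IsScalarTower.algebraMap_apply] using ha
    · intro h
      refine D.notMem ?_
      have h' : ι (algebraMap A _ (algebraMap R₀ A D.f)) ∈ q := h
      simpa [ι, MvPolynomial.map_C, ← IsScalarTower.algebraMap_apply] using h'
  obtain ⟨_, ⟨g, rfl⟩, hgq, hgU⟩ := PrimeSpectrum.isTopologicalBasis_basic_opens.exists_subset_of_mem_open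
    (show (⟨q.comap ι, inferInstance⟩ : PrimeSpectrum _) ∈ _ from hqA)
    (isOpen_flat_noetherian (R := A) (bcSub A L₀))
  refine ⟨ι g, hgq, fun q' _ hgq' => ?_⟩
  rw [← bcSub_bcSub (R₀ := R₀) (A := A)]
  exact flat_bc (bcSub A L₀) q' (hgU (show (⟨q'.comap ι, inferInstance⟩ : PrimeSpectrum _) ∈
    (PrimeSpectrum.basicOpen g : Set _) from hgq'))

/-- The witness of flatness descends to a Noetherian subalgebra. -/
theorem exists_descended {R₀ : Type u} [CommRing R₀] [Algebra R₀ R] [IsNoetherianRing R₀] (p : Ideal R₀)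
    {T : Type u} [Fintype T] (v₀ : T → Fin k → MvPolynomial (Fin n) R₀) (s : PP)
    (hsv : ∀ v ∈ Submodule.span (MvPolynomial (Fin n) R₀) (Set.range v₀), (∀ a, coord v a ∈ p) →
      s • bc R v ∈ p.map (algebraMap R₀ R) •
        (bcSub R (Submodule.span (MvPolynomial (Fin n) R₀) (Set.range v₀))).restrictScalars R) :
    ∃ (A : Subalgebra R₀ R) (_ : IsNoetherianRing A) (sA : MvPolynomial (Fin n) A),
      MvPolynomial.map (algebraMap A R) sA = s ∧
      ∀ v ∈ Submodule.span (MvPolynomial (Fin n) R₀) (Set.range v₀), (∀ a, coord v a ∈ p) →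
        sA • bc A v ∈ p.map (algebraMap R₀ A) •
          (bcSub A (Submodule.span (MvPolynomial (Fin n) R₀) (Set.range v₀))).restrictScalars A := by
  classical
  set L₀ := Submodule.span (MvPolynomial (Fin n) R₀) (Set.range v₀) with hL₀
  obtain ⟨G, hG⟩ := IsNoetherian.noetherian p
  -- relations witnessing `s • v ∈ p L`
  let C : Submodule (MvPolynomial (Fin n) R₀) (Fin k → MvPolynomial (Fin n) R₀) :=
    L₀ ⊓ p.map (algebraMap R₀ (MvPolynomial (Fin n) R₀)) • ⊤
  have hC : ∀ v, v ∈ C ↔ v ∈ L₀ ∧ ∀ a, coord v a ∈ p := fun v => by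
    rw [Submodule.mem_inf]
    refine and_congr_right fun _ => ?_
    rw [← Submodule.restrictScalars_mem R₀, Ideal.smul_restrictScalars, Submodule.restrictScalars_top,
      mem_smul_top_iff_coord]
  obtain ⟨GC, hGC⟩ := IsNoetherian.noetherian C
  have hu : ∀ g : GC, ∃ u : G × T → PP,
      ∑ i, u i • (algebraMap R PP (algebraMap R₀ R i.1.1) • bc R (v₀ i.2)) = s • bc R g.1 := by
    rintro ⟨g, hg⟩
    obtain ⟨h1, h2⟩ := (hC g).mp (hGC ▸ Submodule.subset_span hg)
    have := hsv g h1 h2
    rw [← Ideal.smul_restrictScalars, Submodule.restrictScalars_mem, ← hG, Ideal.submodule_span_eq,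
      Ideal.map_span, Ideal.map_span, bcSub_span, Ideal.span, Submodule.span_smul_span] at this
    refine (Submodule.mem_span_range_iff_exists_fun PP).mp (Submodule.span_mono ?_ this)
    rintro _ ⟨_, ⟨_, ⟨a, ha, rfl⟩, rfl⟩, _, ⟨_, ⟨t, rfl⟩, rfl⟩, rfl⟩
    exact ⟨(⟨a, ha⟩, t), rfl⟩
  choose u hu using hu
  let c' : Finset R := s.coeffs ∪ Finset.univ.biUnion fun i : GC × (G × T) => (u i.1 i.2).coeffs
  let A := Algebra.adjoin R₀ (c' : Set R)
  have : Algebra.FiniteType R₀ A :=
    (Subalgebra.fg_iff_finiteType _).mp (Subalgebra.fg_adjoin_finset _)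
  have : IsNoetherianRing A := Algebra.FiniteType.isNoetherianRing R₀ A
  let ι := MvPolynomial.map (σ := Fin n) (algebraMap A R)
  have hι : Function.Injective ι := MvPolynomial.map_injective _ Subtype.val_injective
  have hlift : ∀ t : PP, (∀ a ∈ t.coeffs, a ∈ c') → ∃ t' : MvPolynomial (Fin n) A, ι t' = t :=
    fun t ht => MvPolynomial.mem_range_map_iff_coeffs_subset (f := algebraMap A R) (x := t) |>.mpr
      fun a ha => ⟨⟨a, Algebra.subset_adjoin (ht a ha)⟩, rfl⟩
  obtain ⟨sA, hsA⟩ := hlift s fun a ha => Finset.mem_union_left _ ha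
  choose uA huA using fun g i => hlift (u g i) fun a ha =>
    Finset.mem_union_right _ (Finset.mem_biUnion.mpr ⟨(g, i), Finset.mem_univ _, ha⟩)
  have hbc : ∀ x : Fin k → MvPolynomial (Fin n) R₀, bc R (bc A x) = bc R x := fun x => by
    funext i
    show MvPolynomial.map _ (MvPolynomial.map _ (x i)) = _
    rw [MvPolynomial.map_map, ← IsScalarTower.algebraMap_eq R₀ A R]
    rfl
  have hsvA : ∀ v ∈ L₀, (∀ a, coord v a ∈ p) →
      sA • bc A v ∈ p.map (algebraMap R₀ A) • (bcSub A L₀).restrictScalars A := by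
    intro v hv hvp
    have hvC : v ∈ Submodule.span (MvPolynomial (Fin n) R₀) (GC : Set _) := hGC.symm ▸ (hC v).mpr ⟨hv, hvp⟩
    clear hv hvp
    induction hvC using Submodule.span_induction with
    | mem g hg =>
      have heq : sA • bc A g = ∑ i, uA ⟨g, hg⟩ i •
          (algebraMap A (MvPolynomial (Fin n) A) (algebraMap R₀ A i.1.1) • bc A (v₀ i.2)) := by
        have hinj : Function.Injective (bc R : (Fin k → MvPolynomial (Fin n) A) → FF) :=
          fun x y h => funext fun i => hι (congrFun h i)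
        apply hinj
        simp only [bc_psmul, bc_sum, hbc, show (MvPolynomial.map (algebraMap A R)) = ι from rfl, hsA, huA]
        rw [← hu ⟨g, hg⟩]
        refine Finset.sum_congr rfl fun i _ => ?_
        simp [ι, MvPolynomial.map_C, ← IsScalarTower.algebraMap_apply]
      rw [heq]
      refine sum_mem fun i _ => smul_mem_smul_restrictScalars _ ?_
      rw [algebraMap_smul]
      exact Submodule.smul_mem_smul (Ideal.mem_map_of_mem _ (hG ▸ Submodule.subset_span i.1.2))
        (Submodule.subset_span ⟨v₀ i.2, Submodule.subset_span ⟨i.2, rfl⟩, rfl⟩)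
    | zero => rw [bc_zero, smul_zero]; exact zero_mem _
    | add a b _ _ ha hb => rw [bc_add, smul_add]; exact add_mem ha hb
    | smul r a _ ha =>
      rw [bc_psmul, smul_comm]
      exact smul_mem_smul_restrictScalars _ ha
  exact ⟨A, inferInstance, sA, hsA, hsvA⟩

/-- Openness of the flat locus of a finitely presented polynomial module: a neighbourhood. -/
theorem exists_flat_nhd (T : Finset FF) (q : Ideal PP) [q.IsPrime]
    (hq : Module.Flat R (LocalizedModule q.primeCompl (FF ⧸ Submodule.span PP (T : Set FF)))) :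
    ∃ g ∉ q, ∀ (q' : Ideal PP) [q'.IsPrime], g ∉ q' →
      Module.Flat R (LocalizedModule q'.primeCompl (FF ⧸ Submodule.span PP (T : Set FF))) := by
  classical
  let c : Finset R := T.biUnion fun v => Finset.univ.biUnion fun i : Fin k => (v i).coeffs
  let R₀ := Algebra.adjoin ℤ (c : Set R)
  have : Algebra.FiniteType ℤ R₀ :=
    (Subalgebra.fg_iff_finiteType _).mp (Subalgebra.fg_adjoin_finset _)
  have : IsNoetherianRing R₀ := Algebra.FiniteType.isNoetherianRing ℤ R₀
  have hT : ∀ v : T, ∃ v₀ : Fin k → MvPolynomial (Fin n) R₀, bc R v₀ = v.1 := by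
    rintro ⟨v, hv⟩
    choose w hw using fun i => MvPolynomial.mem_range_map_iff_coeffs_subset (f := algebraMap R₀ R)
      (x := v i) |>.mpr fun a ha => ⟨⟨a, Algebra.subset_adjoin (Finset.mem_coe.mpr (Finset.mem_biUnion.mpr
        ⟨v, hv, Finset.mem_biUnion.mpr ⟨i, Finset.mem_univ _, ha⟩⟩))⟩, rfl⟩
    exact ⟨w, funext hw⟩
  choose v₀ hv₀ using hT
  let L₀ := Submodule.span (MvPolynomial (Fin n) R₀) (Set.range v₀)
  have hL : Submodule.span PP (T : Set FF) = bcSub R L₀ := by
    rw [bcSub_span, ← Set.range_comp]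
    congr 1
    ext x
    exact ⟨fun hx => ⟨⟨x, hx⟩, hv₀ _⟩, fun ⟨⟨y, hy⟩, hyx⟩ => by rw [← hyx, Function.comp_apply, hv₀]; exact hy⟩
  rw [hL] at hq ⊢
  let p := (q.comap (algebraMap R PP)).comap (algebraMap R₀ R)
  obtain ⟨D⟩ := exists_stdData L₀ p
  obtain ⟨s, hs, hsv⟩ := exists_smul_cap (R₀ := R₀) (L₀ := L₀) (p := p) q hq
  obtain ⟨A, _, sA, hsA, hsvA⟩ := exists_descended p v₀ s hsv
  exact exists_nhd_of_descended (A := A) q D hsvA (hsA ▸ hs)

end Groth.Agent.FlatCrit65.Monom
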