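import Groth.Agent.FlatCrit65.FlatLocus.Std
import Groth.Agent.FlatCrit65.Nilpotent

/-!
Base change of the standard monomials: control of the relations modulo `p A` and of the
kernels of tensoring with ideals of `A / p A`.
-/

universe u

open TensorProduct MvPolynomial

namespace Groth.Agent.FlatCrit65.Monom

variable {R₀ : Type u} [CommRing R₀] (A : Type u) [CommRing A] [Algebra R₀ A] {n k : ℕ}

/-- Base change of a vector of polynomials. -/
noncomputable def bc (x : Fin k → MvPolynomial (Fin n) R₀) : Fin k → MvPolynomial (Fin n) A :=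
  fun i => MvPolynomial.map (algebraMap R₀ A) (x i)

theorem coord_bc (x : Fin k → MvPolynomial (Fin n) R₀) (a) :
    coord (bc A x) a = algebraMap R₀ A (coord x a) := coeff_map _ _ _

theorem bc_add (x y : Fin k → MvPolynomial (Fin n) R₀) : bc A (x + y) = bc A x + bc A y :=
  funext fun i => map_add _ _ _

theorem bc_zero : bc A (0 : Fin k → MvPolynomial (Fin n) R₀) = 0 := funext fun _ => map_zero _

theorem bc_psmul (q : MvPolynomial (Fin n) R₀) (x : Fin k → MvPolynomial (Fin n) R₀) :
    bc A (q • x) = MvPolynomial.map (algebraMap R₀ A) q • bc A x := funext fun i => map_mul _ _ _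

theorem bc_smul (r : R₀) (x : Fin k → MvPolynomial (Fin n) R₀) :
    bc A (r • x) = algebraMap R₀ A r • bc A x := by
  funext i
  show MvPolynomial.map (algebraMap R₀ A) (r • x i) = algebraMap R₀ A r • MvPolynomial.map (algebraMap R₀ A) (x i)
  rw [MvPolynomial.smul_eq_C_mul, MvPolynomial.smul_eq_C_mul, map_mul, MvPolynomial.map_C]

theorem bc_sum {ι : Type*} (s : Finset ι) (y : ι → Fin k → MvPolynomial (Fin n) R₀) :
    bc A (∑ i ∈ s, y i) = ∑ i ∈ s, bc A (y i) := by
  funext j
  simp only [bc, Finset.sum_apply, map_sum]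

theorem bc_sub (x y : Fin k → MvPolynomial (Fin n) R₀) : bc A (x - y) = bc A x - bc A y :=
  funext fun i => map_sub _ _ _

/-- The reduction data of standard monomials of a submodule at a prime. -/
structure StdData (L₀ : Submodule (MvPolynomial (Fin n) R₀) (Fin k → MvPolynomial (Fin n) R₀))
    (p : Ideal R₀) where
  /-- the element to invert -/
  f : R₀
  /-- the standard monomials -/
  Bs : Set ((Fin n →₀ ℕ) × Fin k)
  /-- the exponents -/
  N : (Fin n →₀ ℕ) × Fin k → ℕ
  /-- the relations -/
  w : (Fin n →₀ ℕ) × Fin k → (Fin k → MvPolynomial (Fin n) R₀)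
  notMem : f ∉ p
  w_mem : ∀ x, w x ∈ L₀
  w_std : ∀ x ∈ Bs, w x = 0
  red : ∀ x, ∀ a ∉ Bs, coord (f ^ N x • e R₀ x - w x) a ∈ p
  indep : ∀ y ∈ L₀, (∀ a ∉ Bs, coord y a ∈ p) → ∀ a, coord y a ∈ p

theorem exists_stdData (L₀ : Submodule (MvPolynomial (Fin n) R₀) (Fin k → MvPolynomial (Fin n) R₀))
    (p : Ideal R₀) [p.IsPrime] : Nonempty (StdData L₀ p) := by
  classical
  let K : Submodule (MvPolynomial (Fin n) R₀) (Fin k → MvPolynomial (Fin n) R₀) :=
    L₀ ⊔ p.map (algebraMap R₀ (MvPolynomial (Fin n) R₀)) • ⊤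
  have hpK : ∀ c ∈ p, ∀ z : Fin k → MvPolynomial (Fin n) R₀, c • z ∈ K := by
    intro c hc z
    rw [← algebraMap_smul (MvPolynomial (Fin n) R₀) c z]
    exact Submodule.mem_sup_right (Submodule.smul_mem_smul (Ideal.mem_map_of_mem _ hc) trivial)
  obtain ⟨f, Bs, hf, hred, hind⟩ := exists_std K p hpK
  have key : ∀ x, ∃ (N : ℕ) (w : Fin k → MvPolynomial (Fin n) R₀), w ∈ L₀ ∧ (x ∈ Bs → w = 0) ∧
      ∀ a ∉ Bs, coord (f ^ N • e R₀ x - w) a ∈ p := by
    intro x
    by_cases hx : x ∈ Bs
    · refine ⟨0, 0, zero_mem _, fun _ => rfl, fun a ha => ?_⟩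
      rw [pow_zero, one_smul, sub_zero, coord_e, if_neg (fun h : x = a => ha (h ▸ hx))]
      exact zero_mem p
    · obtain ⟨N, hN⟩ := hred x
      obtain ⟨u, hu, b, hb, hub⟩ := Submodule.mem_sup.mp hN
      obtain ⟨w, hw, π, hπ, rfl⟩ := Submodule.mem_sup.mp (show u ∈ K from hu)
      refine ⟨N, w, hw, fun h => absurd h hx, fun a ha => ?_⟩
      rw [← hub, show w + π + b - w = π + b by abel, coord_add]
      refine add_mem ?_ ?_
      · rw [← Submodule.restrictScalars_mem R₀, Ideal.smul_restrictScalars,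
          Submodule.restrictScalars_top] at hπ
        exact (mem_smul_top_iff_coord p π).mp hπ a
      · clear hub
        induction hb using Submodule.span_induction with
        | mem z hz =>
          obtain ⟨y, hy, rfl⟩ := hz
          rw [coord_e, if_neg (fun h : y = a => ha (h ▸ hy))]
          exact zero_mem p
        | zero => rw [coord_zero]; exact zero_mem p
        | add z z' _ _ h h' => rw [coord_add]; exact add_mem h h'
        | smul r z _ h => rw [coord_smul]; exact p.mul_mem_left r h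
  choose N w hwL hwB hwred using key
  refine ⟨⟨f, Bs, N, w, hf, hwL, hwB, hwred, fun y hy hyB a => ?_⟩⟩
  by_cases ha : a ∈ Bs
  · let E := (monoms y).filter (fun x => x ∈ Bs)
    let y' := ∑ x ∈ E, coord y x • e R₀ x
    have hcoord : ∀ x, coord y' x = if x ∈ E then coord y x else 0 := fun x => by
      simp only [y', coord_sum, coord_smul, coord_e, mul_ite, mul_one, mul_zero, Finset.sum_ite_eq']
    have hmon : ∀ x, coord y x ≠ 0 → x ∈ monoms y := fun x hx => by
      simp only [monoms, Finset.mem_biUnion, Finset.mem_image]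
      exact ⟨x.2, Finset.mem_univ _, x.1, mem_support_iff.mpr hx, rfl⟩
    have hy' : y' ∈ K := by
      have h2 : y - y' ∈ p.map (algebraMap R₀ (MvPolynomial (Fin n) R₀)) •
          (⊤ : Submodule (MvPolynomial (Fin n) R₀) (Fin k → MvPolynomial (Fin n) R₀)) := by
        rw [← Submodule.restrictScalars_mem R₀, Ideal.smul_restrictScalars,
          Submodule.restrictScalars_top, mem_smul_top_iff_coord]
        intro x
        rw [sub_eq_add_neg, ← neg_one_smul R₀ y', coord_add, coord_smul, hcoord]
        split_ifs with hxE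
        · simp
        · rw [mul_zero, add_zero]
          by_cases hxB : x ∈ Bs
          · by_cases h0 : coord y x = 0
            · rw [h0]; exact zero_mem p
            · exact absurd (Finset.mem_filter.mpr ⟨hmon x h0, hxB⟩) hxE
          · exact hyB x hxB
      have := sub_mem (Submodule.mem_sup_left hy : y ∈ K) (Submodule.mem_sup_right h2 : y - y' ∈ K)
      rwa [sub_sub_cancel] at this
    have := hind y' (fun x hx => by
      by_contra hxB
      exact hx (by rw [hcoord, if_neg fun h => hxB (Finset.mem_filter.mp h).2])) hy' a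
    rw [hcoord] at this
    split_ifs at this with haE
    · exact this
    · by_cases h0 : coord y a = 0
      · rw [h0]; exact zero_mem p
      · exact absurd (Finset.mem_filter.mpr ⟨hmon a h0, ha⟩) haE
  · exact hyB a ha

variable {A} {L₀ : Submodule (MvPolynomial (Fin n) R₀) (Fin k → MvPolynomial (Fin n) R₀)} {p : Ideal R₀}
  (D : StdData L₀ p)

/-- The image in `F_A` of the relations of `L₀` with coefficients in `p`. -/
noncomputable def capSpan (A : Type u) [CommRing A] [Algebra R₀ A]
    (L₀ : Submodule (MvPolynomial (Fin n) R₀) (Fin k → MvPolynomial (Fin n) R₀)) (p : Ideal R₀) :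
    Submodule A (Fin k → MvPolynomial (Fin n) A) :=
  Submodule.span A (bc A '' {z | z ∈ L₀ ∧ ∀ a, coord z a ∈ p})

/-- The base change of a submodule of a free polynomial module. -/
noncomputable def bcSub (A : Type u) [CommRing A] [Algebra R₀ A]
    (L₀ : Submodule (MvPolynomial (Fin n) R₀) (Fin k → MvPolynomial (Fin n) R₀)) :
    Submodule (MvPolynomial (Fin n) A) (Fin k → MvPolynomial (Fin n) A) :=
  Submodule.span _ (bc A '' (L₀ : Set (Fin k → MvPolynomial (Fin n) R₀)))

theorem bcSub_span (T : Set (Fin k → MvPolynomial (Fin n) R₀)) :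
    bcSub A (Submodule.span (MvPolynomial (Fin n) R₀) T) =
      Submodule.span (MvPolynomial (Fin n) A) (bc A '' T) := by
  refine le_antisymm (Submodule.span_le.mpr ?_) (Submodule.span_mono (Set.image_mono Submodule.subset_span))
  rintro _ ⟨y, hy, rfl⟩
  induction hy using Submodule.span_induction with
  | mem z hz => exact Submodule.subset_span ⟨z, hz, rfl⟩
  | zero => rw [bc_zero]; exact zero_mem _
  | add a b _ _ ha hb => rw [bc_add]; exact add_mem ha hb
  | smul q a _ ha => rw [bc_psmul]; exact Submodule.smul_mem _ _ ha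

theorem mem_span_of_mem_bcSub {y : Fin k → MvPolynomial (Fin n) A} (hy : y ∈ bcSub A L₀) :
    y ∈ Submodule.span A (bc A '' (L₀ : Set (Fin k → MvPolynomial (Fin n) R₀))) := by
  induction hy using Submodule.span_induction with
  | mem z hz => exact Submodule.subset_span hz
  | zero => exact zero_mem _
  | add a b _ _ ha hb => exact add_mem ha hb
  | smul q a hmem ha =>
    clear hmem
    induction q using MvPolynomial.induction_on' with
    | add q r hq hr => rw [add_smul]; exact add_mem hq hr
    | monomial c r =>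
      rw [show monomial c r = r • monomial c (1 : A) by rw [smul_monomial, smul_eq_mul, mul_one], smul_assoc]
      refine Submodule.smul_mem _ r ?_
      induction ha using Submodule.span_induction with
      | mem z hz =>
        obtain ⟨v, hv, rfl⟩ := hz
        refine Submodule.subset_span ⟨monomial c (1 : R₀) • v, L₀.smul_mem _ hv, ?_⟩
        rw [bc_psmul, MvPolynomial.map_monomial, map_one]
      | zero => rw [smul_zero]; exact zero_mem _
      | add a b _ _ ha hb => rw [smul_add]; exact add_mem ha hb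
      | smul r a _ ha => rw [smul_comm]; exact Submodule.smul_mem _ r ha

variable (A) in
theorem StdData.exists_red {y : Fin k → MvPolynomial (Fin n) A} (hy : y ∈ bcSub A L₀) :
    ∃ E₀ : Finset ((Fin n →₀ ℕ) × Fin k), ∀ E, E₀ ⊆ E → ∀ M, (∀ x ∈ E, D.N x ≤ M) →
      algebraMap R₀ A D.f ^ M • y -
        ∑ x ∈ E, (coord y x * algebraMap R₀ A D.f ^ (M - D.N x)) • bc A (D.w x) ∈ capSpan A L₀ p := by
  classical
  replace hy := mem_span_of_mem_bcSub hy
  induction hy using Submodule.span_induction with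
  | mem z hz =>
    obtain ⟨v, hv, rfl⟩ := hz
    refine ⟨monoms v, fun E hE M hM => ?_⟩
    let d := D.f ^ M • v - ∑ x ∈ E, (coord v x * D.f ^ (M - D.N x)) • D.w x
    have hdL : d ∈ L₀ := sub_mem (L₀.smul_of_tower_mem _ hv)
      (sum_mem fun x _ => L₀.smul_of_tower_mem _ (D.w_mem x))
    have hd : ∀ a ∉ D.Bs, coord d a ∈ p := by
      intro a ha
      have : d = ∑ x ∈ E, (coord v x * D.f ^ (M - D.N x)) • (D.f ^ D.N x • e R₀ x - D.w x) := by
        simp only [d]
        conv_lhs => arg 1; rw [← sum_coord v E hE]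
        rw [Finset.smul_sum, ← Finset.sum_sub_distrib]
        refine Finset.sum_congr rfl fun x hx => ?_
        rw [smul_sub, smul_smul, smul_smul, mul_assoc (coord v x), ← pow_add, Nat.sub_add_cancel (hM x hx),
          mul_comm]
      rw [this, coord_sum]
      exact sum_mem fun x _ => by rw [coord_smul]; exact p.mul_mem_left _ (D.red x a ha)
    refine Submodule.subset_span ⟨d, ⟨hdL, D.indep d hdL hd⟩, ?_⟩
    simp only [d, bc_sub, bc_smul, bc_sum, map_pow, map_mul, coord_bc]
  | zero => exact ⟨∅, fun E _ M _ => by simp [coord_zero]⟩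
  | add a b _ _ ha hb =>
    obtain ⟨Ea, ha⟩ := ha
    obtain ⟨Eb, hb⟩ := hb
    refine ⟨Ea ∪ Eb, fun E hE M hM => ?_⟩
    have := add_mem (ha E (Finset.union_subset_left hE) M hM) (hb E (Finset.union_subset_right hE) M hM)
    convert this using 1
    simp only [coord_add, add_mul, add_smul, Finset.sum_add_distrib, smul_add]
    abel
  | smul r a _ ha =>
    obtain ⟨Ea, ha⟩ := ha
    refine ⟨Ea, fun E hE M hM => ?_⟩
    have := Submodule.smul_mem _ r (ha E hE M hM)
    convert this using 1
    rw [smul_sub, Finset.smul_sum, smul_comm]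
    congr 1
    exact Finset.sum_congr rfl fun x _ => by rw [coord_smul, smul_smul, mul_assoc]

variable (A) in
/-- Relations with coefficients in `p A` come, up to powers of `f`, from `(p A) L` and `L₀ ∩ p F₀`. -/
theorem StdData.exists_mem_cap {y : Fin k → MvPolynomial (Fin n) A} (hy : y ∈ bcSub A L₀)
    (hyp : ∀ a, coord y a ∈ p.map (algebraMap R₀ A)) :
    ∃ M : ℕ, algebraMap R₀ A D.f ^ M • y ∈
      p.map (algebraMap R₀ A) • (bcSub A L₀).restrictScalars A ⊔ capSpan A L₀ p := by
  obtain ⟨E, hE⟩ := D.exists_red A hy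
  refine ⟨E.sup D.N, ?_⟩
  have := hE E subset_rfl _ (fun x hx => Finset.le_sup hx)
  rw [← sub_add_cancel (algebraMap R₀ A D.f ^ E.sup D.N • y)
    (∑ x ∈ E, (coord y x * algebraMap R₀ A D.f ^ (E.sup D.N - D.N x)) • bc A (D.w x))]
  refine add_mem (Submodule.mem_sup_right this) (Submodule.mem_sup_left (sum_mem fun x _ => ?_))
  exact Submodule.smul_mem_smul (Ideal.mul_mem_right _ _ (hyp x))
    (Submodule.subset_span ⟨D.w x, D.w_mem x, rfl⟩)

variable (A) in
/-- The kernels of tensoring with ideals of `A / p A` are killed by powers of `f`. -/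
theorem StdData.exists_smul_eq_zero (K : Submodule A (A ⧸ p.map (algebraMap R₀ A)))
    (z : ((Fin k → MvPolynomial (Fin n) A) ⧸ bcSub A L₀) ⊗[A] K)
    (hz : K.subtype.lTensor ((Fin k → MvPolynomial (Fin n) A) ⧸ bcSub A L₀) z = 0) :
    ∃ m : ℕ, algebraMap R₀ A D.f ^ m • z = 0 := by
  classical
  let I := p.map (algebraMap R₀ A)
  set fA := algebraMap R₀ A D.f with hfA
  let q : (Fin n →₀ ℕ) × Fin k → ((Fin k → MvPolynomial (Fin n) A) ⧸ bcSub A L₀) := fun x =>
    Submodule.Quotient.mk (e A x)
  have hkill : ∀ r ∈ I, ∀ c : K, r • c = 0 := by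
    intro r hr c
    obtain ⟨c₀, hc₀⟩ := Ideal.Quotient.mk_surjective (I := I) c.1
    refine Subtype.ext ?_
    show r • c.1 = 0
    rw [← hc₀]
    exact Ideal.Quotient.eq_zero_iff_mem.mpr (I.mul_mem_right _ hr)
  -- the elements reducing to standard monomials
  let good : Submodule A (((Fin k → MvPolynomial (Fin n) A) ⧸ bcSub A L₀) ⊗[A] K) :=
    { carrier := {z | ∃ m : ℕ, fA ^ m • z ∈ Submodule.span A
        {t | ∃ x ∈ D.Bs, ∃ c : K, t = q x ⊗ₜ[A] c}}
      zero_mem' := ⟨0, by rw [smul_zero]; exact zero_mem _⟩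
      add_mem' := by
        rintro a b ⟨m, hm⟩ ⟨m', hm'⟩
        refine ⟨m + m', ?_⟩
        rw [smul_add, pow_add]
        refine add_mem ?_ ?_
        · rw [mul_comm, mul_smul]; exact Submodule.smul_mem _ _ hm
        · rw [mul_smul]; exact Submodule.smul_mem _ _ hm'
      smul_mem' := by
        rintro r a ⟨m, hm⟩
        exact ⟨m, by rw [smul_comm]; exact Submodule.smul_mem _ _ hm⟩ }
  have hgood : ∀ z, z ∈ good := by
    intro z
    induction z using TensorProduct.induction_on with
    | zero => exact zero_mem _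
    | add a b ha hb => exact add_mem ha hb
    | tmul m c =>
      obtain ⟨y, rfl⟩ := Submodule.Quotient.mk_surjective _ m
      rw [← sum_coord y _ subset_rfl, ← Submodule.mkQ_apply, map_sum, TensorProduct.sum_tmul]
      refine sum_mem fun x _ => ?_
      rw [LinearMap.map_smul_of_tower, ← smul_tmul']
      refine Submodule.smul_mem _ _ ⟨D.N x, ?_⟩
      set d := bc A (D.f ^ D.N x • e R₀ x - D.w x) with hd
      have h1 : fA ^ D.N x • ((bcSub A L₀).mkQ (e A x) ⊗ₜ[A] c) = (bcSub A L₀).mkQ d ⊗ₜ[A] c := by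
        rw [smul_tmul', ← LinearMap.map_smul_of_tower, hd, bc_sub, bc_smul, map_sub, map_pow, ← hfA]
        have hw0 : (bcSub A L₀).mkQ (bc A (D.w x)) = 0 :=
          (Submodule.Quotient.mk_eq_zero _).mpr (Submodule.subset_span ⟨_, D.w_mem x, rfl⟩)
        rw [hw0, sub_zero]
        congr 3
        funext i
        obtain ⟨a, j⟩ := x
        rcases eq_or_ne i j with rfl | h
        · simp [bc, e]
        · simp [bc, e, h]
      rw [h1, ← sum_coord d _ subset_rfl, map_sum, TensorProduct.sum_tmul]
      refine sum_mem fun a _ => ?_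
      rw [LinearMap.map_smul_of_tower]
      by_cases ha : a ∈ D.Bs
      · rw [← smul_tmul']
        exact Submodule.smul_mem _ _ (Submodule.subset_span ⟨a, ha, c, rfl⟩)
      · rw [smul_tmul, hkill _ (by rw [hd, coord_bc]; exact Ideal.mem_map_of_mem _ (D.red x a ha)) c,
          tmul_zero]
        exact zero_mem _
  obtain ⟨m, hm⟩ := hgood z
  -- write the reduced element on standard monomials
  obtain ⟨E, c, hEB, hsum⟩ : ∃ (E : Finset ((Fin n →₀ ℕ) × Fin k)) (c : _ → K),
      (∀ x ∈ E, x ∈ D.Bs) ∧ ∑ x ∈ E, q x ⊗ₜ[A] c x = fA ^ m • z := by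
    revert hm
    generalize fA ^ m • z = t
    intro ht
    induction ht using Submodule.span_induction with
    | mem t ht =>
      obtain ⟨x, hx, c, rfl⟩ := ht
      exact ⟨{x}, fun _ => c, by simpa using hx, by simp⟩
    | zero => exact ⟨∅, 0, by simp, by simp⟩
    | add a b _ _ ha hb =>
      obtain ⟨E, c, hE, rfl⟩ := ha
      obtain ⟨E', c', hE', rfl⟩ := hb
      refine ⟨E ∪ E', fun x => (if x ∈ E then c x else 0) + (if x ∈ E' then c' x else 0), ?_, ?_⟩
      · intro x hx
        rcases Finset.mem_union.mp hx with h | h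
        · exact hE x h
        · exact hE' x h
      · simp only [tmul_add, Finset.sum_add_distrib, tmul_ite, Finset.sum_ite_mem]
        rw [Finset.inter_eq_right.mpr Finset.subset_union_left,
          Finset.inter_eq_right.mpr Finset.subset_union_right]
    | smul r a _ ha =>
      obtain ⟨E, c, hE, rfl⟩ := ha
      exact ⟨E, fun x => r • c x, hE, by rw [Finset.smul_sum]; simp [tmul_smul]⟩
  choose c₀ hc₀ using fun x => Ideal.Quotient.mk_surjective (I := I) (c x).1
  let y := ∑ x ∈ E, c₀ x • e A x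
  have hy0 : (Submodule.Quotient.mk y : (Fin k → MvPolynomial (Fin n) A) ⧸ bcSub A L₀) ⊗ₜ[A]
      (1 : A ⧸ I) = 0 := by
    have : K.subtype.lTensor _ (fA ^ m • z) = 0 := by rw [map_smul, hz, smul_zero]
    rw [← hsum, map_sum] at this
    rw [← this, ← Submodule.mkQ_apply, map_sum, TensorProduct.sum_tmul]
    refine Finset.sum_congr rfl fun x _ => ?_
    rw [LinearMap.lTensor_tmul, LinearMap.map_smul_of_tower, smul_tmul]
    congr 1
    show c₀ x • (1 : A ⧸ I) = (c x).1
    rw [← hc₀, Algebra.smul_def, mul_one]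
    rfl
  have hyI : y ∈ (bcSub A L₀).restrictScalars A ⊔ I • ⊤ := by
    have h1 := congrArg (TensorProduct.comm A _ (A ⧸ I)) hy0
    rw [map_zero, TensorProduct.comm_tmul, one_tmul_eq_zero_iff'] at h1
    have h2 : I • (⊤ : Submodule A ((Fin k → MvPolynomial (Fin n) A) ⧸ bcSub A L₀)) ≤
        (I • (⊤ : Submodule A (Fin k → MvPolynomial (Fin n) A))).map
          ((bcSub A L₀).mkQ.restrictScalars A) := by
      rw [Submodule.map_smul'', Submodule.map_top]
      exact Submodule.smul_mono le_rfl (fun t _ => Submodule.Quotient.mk_surjective _ t)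
    obtain ⟨u, hu, huy⟩ := h2 h1
    exact Submodule.mem_sup.mpr ⟨y - u, (Submodule.Quotient.eq _).mp huy.symm, u, hu, sub_add_cancel _ _⟩
  obtain ⟨l, hl, π, hπ, hlπ⟩ := Submodule.mem_sup.mp hyI
  obtain ⟨E₀, hE₀⟩ := D.exists_red A hl
  let M := (E₀ ∪ E).sup D.N
  have hG := hE₀ (E₀ ∪ E) Finset.subset_union_left M (fun x hx => Finset.le_sup hx)
  have hGI : ∀ t ∈ capSpan A L₀ p, t ∈ I • (⊤ : Submodule A (Fin k → MvPolynomial (Fin n) A)) := by
    intro t ht
    refine Submodule.span_le.mpr ?_ ht
    rintro _ ⟨v, ⟨-, hv⟩, rfl⟩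
    exact (mem_smul_top_iff_coord I _).mpr fun a => coord_bc A v a ▸ Ideal.mem_map_of_mem _ (hv a)
  have hcy : ∀ a, coord y a = if a ∈ E then c₀ a else 0 := fun a => by
    simp only [y, coord_sum, coord_smul, coord_e, mul_ite, mul_one, mul_zero, Finset.sum_ite_eq']
  have hlI : fA ^ M • l ∈ I • (⊤ : Submodule A (Fin k → MvPolynomial (Fin n) A)) := by
    rw [← sub_add_cancel (fA ^ M • l) (∑ x ∈ E₀ ∪ E, (coord l x * fA ^ (M - D.N x)) • bc A (D.w x))]
    refine add_mem (hGI _ hG) (sum_mem fun x _ => ?_)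
    by_cases hx : x ∈ D.Bs
    · rw [D.w_std x hx, bc_zero, smul_zero]; exact zero_mem _
    · refine Submodule.smul_mem_smul (I.mul_mem_right _ ?_) trivial
      have h1 := hcy x
      rw [if_neg (fun h => hx (hEB x h)), ← hlπ, coord_add] at h1
      rw [eq_neg_of_add_eq_zero_left h1]
      exact neg_mem ((mem_smul_top_iff_coord I π).mp hπ x)
  refine ⟨M + m, ?_⟩
  rw [pow_add, mul_smul, ← hsum, Finset.smul_sum]
  refine Finset.sum_eq_zero fun x hx => ?_
  rw [← tmul_smul]
  suffices fA ^ M • c x = 0 by rw [this, tmul_zero]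
  refine Subtype.ext ?_
  show fA ^ M • (c x).1 = 0
  rw [← hc₀]
  refine Ideal.Quotient.eq_zero_iff_mem.mpr ?_
  have h1 := (mem_smul_top_iff_coord I _).mp (add_mem hlI (Submodule.smul_mem _ (fA ^ M) hπ)) x
  rw [← smul_add, hlπ, coord_smul, hcy, if_pos hx] at h1
  exact h1

end Groth.Agent.FlatCrit65.Monom
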