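import Groth.Agent.FlatCrit65.ReducedGenFree

/-!
Standard monomials of a polynomial module at a prime of the base, and their behaviour under base change.
-/

universe u

open TensorProduct MvPolynomial

namespace Groth.Agent.FlatCrit65.Monom

variable {R : Type u} [CommRing R] {n k : ℕ}

/-- The coefficient of a monomial in an element of a finite free polynomial module. -/
def coord (y : Fin k → MvPolynomial (Fin n) R) (x : (Fin n →₀ ℕ) × Fin k) : R := coeff x.1 (y x.2)

/-- The monomials occurring in an element. -/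
noncomputable def monoms (y : Fin k → MvPolynomial (Fin n) R) : Finset ((Fin n →₀ ℕ) × Fin k) :=
  open Classical in Finset.univ.biUnion fun i => (y i).support.image fun a => (a, i)

theorem coord_add (y z : Fin k → MvPolynomial (Fin n) R) (x) :
    coord (y + z) x = coord y x + coord z x := coeff_add _ _ _

theorem coord_smul (r : R) (y : Fin k → MvPolynomial (Fin n) R) (x) :
    coord (r • y) x = r * coord y x := coeff_smul _ _ _

theorem coord_zero (x) : coord (0 : Fin k → MvPolynomial (Fin n) R) x = 0 := coeff_zero _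

theorem coord_sum {ι : Type*} (s : Finset ι) (y : ι → Fin k → MvPolynomial (Fin n) R) (x) :
    coord (∑ i ∈ s, y i) x = ∑ i ∈ s, coord (y i) x := by
  simp only [coord, Finset.sum_apply, coeff_sum]

theorem coord_e [DecidableEq ((Fin n →₀ ℕ) × Fin k)] (x x' : (Fin n →₀ ℕ) × Fin k) :
    coord (e R x) x' = if x = x' then 1 else 0 := by
  classical
  obtain ⟨a, i⟩ := x
  obtain ⟨b, j⟩ := x'
  simp only [coord, e, Prod.mk.injEq]
  rcases eq_or_ne i j with rfl | h
  · simp [coeff_monomial]
  · simp [h.symm, h]

theorem sum_coord (y : Fin k → MvPolynomial (Fin n) R) (E : Finset ((Fin n →₀ ℕ) × Fin k))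
    (hE : monoms y ⊆ E) : ∑ x ∈ E, coord y x • e R x = y := by
  classical
  funext j
  ext b
  show coord (∑ x ∈ E, coord y x • e R x) (b, j) = coord y (b, j)
  simp only [coord_sum, coord_smul, coord_e, mul_ite, mul_one, mul_zero, Finset.sum_ite_eq']
  split_ifs with h
  · rfl
  · symm
    by_contra h'
    refine h (hE ?_)
    simp only [monoms, Finset.mem_biUnion, Finset.mem_image]
    exact ⟨j, Finset.mem_univ _, b, mem_support_iff.mpr h', rfl⟩

theorem mem_smul_top_iff_coord (I : Ideal R) (y : Fin k → MvPolynomial (Fin n) R) :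
    y ∈ I • (⊤ : Submodule R (Fin k → MvPolynomial (Fin n) R)) ↔ ∀ x, coord y x ∈ I := by
  constructor
  · intro hy x
    refine Submodule.smul_induction_on hy (fun r hr z _ => ?_) (fun a b ha hb => ?_)
    · rw [coord_smul]; exact I.mul_mem_right _ hr
    · rw [coord_add]; exact add_mem ha hb
  · intro h
    rw [← sum_coord y _ subset_rfl]
    exact sum_mem fun x _ => Submodule.smul_mem_smul (h x) trivial

theorem exists_maximal_lead_notMem {K : Submodule (MvPolynomial (Fin n) R) (Fin k → MvPolynomial (Fin n) R)}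
    (p : Ideal R) [p.IsPrime] :
    ∃ f : R, f ∉ p ∧ ∀ h : R, h ∉ p → lead K (f * h) ⊆ lead K f := by
  classical
  by_contra hcon
  push Not at hcon
  choose! H hH hH' using hcon
  let seq : ℕ → R := fun i => Nat.rec 1 (fun _ g => g * H g) i
  have hne : ∀ i, seq i ∉ p := by
    intro i
    induction i with
    | zero => exact fun h => Ideal.IsPrime.ne_top' ((Ideal.eq_top_iff_one p).mpr h)
    | succ i ih => exact fun h => (Ideal.IsPrime.mem_or_mem inferInstance h).elim ih (hH _ ih)
  have hmono : Monotone fun i => lead K (seq i) := monotone_nat_of_le_succ fun i => lead_mono _ _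
  obtain ⟨G, hGfin, hGU, hG⟩ := exists_finite_gen (⋃ i, lead K (seq i))
  obtain ⟨J, hJ⟩ : ∃ J, G ⊆ lead K (seq J) :=
    (hmono.directed_le).exists_mem_subset_of_finset_subset_biUnion (s := hGfin.toFinset)
      (by simpa using hGU) |>.imp fun J hJ => by simpa using hJ
  refine hH' _ (hne J) fun x hx => ?_
  obtain ⟨g, hg, c, rfl⟩ := hG x (Set.mem_iUnion.mpr ⟨J + 1, hx⟩)
  exact lead_upper (hJ hg) c

/-- Standard monomials at a prime `p`: after inverting some `f ∉ p` every monomial reduces to
standard ones, and standard monomials are independent modulo `p`. -/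
theorem exists_std (K : Submodule (MvPolynomial (Fin n) R) (Fin k → MvPolynomial (Fin n) R))
    (p : Ideal R) [p.IsPrime]
    (hpK : ∀ c ∈ p, ∀ z : Fin k → MvPolynomial (Fin n) R, c • z ∈ K) :
    ∃ (f : R) (Bs : Set ((Fin n →₀ ℕ) × Fin k)), f ∉ p ∧
      (∀ x, ∃ N : ℕ, f ^ N • e R x ∈ K.restrictScalars R ⊔ Submodule.span R (e R '' Bs)) ∧
      (∀ y, (∀ x, coord y x ≠ 0 → x ∈ Bs) → y ∈ K → ∀ x, coord y x ∈ p) := by
  classical
  obtain ⟨f, hf, hmax⟩ := exists_maximal_lead_notMem (K := K) p
  refine ⟨f, (lead K f)ᶜ, hf, ?_, ?_⟩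
  · intro x
    induction hkey : key x using WellFoundedLT.induction generalizing x with
    | _ a ih =>
      subst hkey
      by_cases hx : x ∈ lead K f
      · obtain ⟨N, hN⟩ := hx
        obtain ⟨w, hw, b, hb, hwb⟩ := Submodule.mem_sup.mp hN
        obtain ⟨N', hN'⟩ : ∃ N' : ℕ, f ^ N' • b ∈ K.restrictScalars R ⊔
            Submodule.span R (e R '' (lead K f)ᶜ) := by
          clear hwb
          induction hb using Submodule.span_induction with
          | mem z hz => obtain ⟨y, hy, rfl⟩ := hz; exact ih _ hy y rfl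
          | zero => exact ⟨0, by rw [smul_zero]; exact zero_mem _⟩
          | add a b _ _ ha hb =>
            obtain ⟨Na, ha⟩ := ha
            obtain ⟨Nb, hb⟩ := hb
            refine ⟨Na + Nb, ?_⟩
            rw [smul_add, pow_add]
            refine add_mem ?_ ?_
            · rw [mul_comm, mul_smul]; exact Submodule.smul_mem _ _ ha
            · rw [mul_smul]; exact Submodule.smul_mem _ _ hb
          | smul r a _ ha =>
            obtain ⟨Na, ha⟩ := ha
            exact ⟨Na, by rw [smul_comm]; exact Submodule.smul_mem _ _ ha⟩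
        refine ⟨N' + N, ?_⟩
        rw [pow_add, mul_smul, ← hwb, smul_add]
        exact add_mem (Submodule.mem_sup_left (Submodule.smul_mem _ _ hw)) hN'
      · exact ⟨0, by rw [pow_zero, one_smul]; exact Submodule.mem_sup_right (Submodule.subset_span ⟨x, hx, rfl⟩)⟩
  · intro y hy hyK x₀
    by_contra hne
    obtain ⟨x, hx, hmaxx⟩ : ∃ x ∈ (monoms y).filter (fun x => coord y x ∉ p),
        ∀ z ∈ (monoms y).filter (fun x => coord y x ∉ p), key z ≤ key x := by
      refine Finset.exists_max_image _ key ⟨x₀, Finset.mem_filter.mpr ⟨?_, hne⟩⟩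
      simp only [monoms, Finset.mem_biUnion, Finset.mem_image]
      exact ⟨x₀.2, Finset.mem_univ _, x₀.1, mem_support_iff.mpr fun h => hne (by
        show coeff x₀.1 (y x₀.2) ∈ p
        rw [h]; exact zero_mem p), rfl⟩
    obtain ⟨hxs, hxp⟩ := Finset.mem_filter.mp hx
    refine hy x (fun h => hxp (h ▸ zero_mem p)) ?_
    refine hmax _ hxp ⟨1, ?_⟩
    rw [pow_one, mul_smul]
    refine Submodule.smul_mem _ f ?_
    have hsum : coord y x • e R x = y - ∑ z ∈ (monoms y).erase x, coord y z • e R z := by
      conv_rhs => arg 1; rw [← sum_coord y _ subset_rfl]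
      rw [← Finset.add_sum_erase _ _ hxs, add_sub_cancel_right]
    rw [hsum]
    refine sub_mem (Submodule.mem_sup_left hyK) (sum_mem fun z hz => ?_)
    obtain ⟨hzx, hzs⟩ := Finset.mem_erase.mp hz
    by_cases hzp : coord y z ∈ p
    · exact Submodule.mem_sup_left (hpK _ hzp _)
    · exact Submodule.smul_mem _ _ (Submodule.mem_sup_right (Submodule.subset_span
        ⟨z, lt_of_le_of_ne (hmaxx z (Finset.mem_filter.mpr ⟨hzs, hzp⟩)) (fun h => hzx (key_injective h)), rfl⟩))

end Groth.Agent.FlatCrit65.Monom
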